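import Cfsg.Agent.Mrg.Omega.IId.Pf.Idx
import Cfsg.Agent.Mrg.Omega.IId.PlaneOf
import Cfsg.Agent.Mrg.ParSys.FreeLie
import Cfsg.Agent.Mrg.Omega.IId.FFour.Two
import Cfsg.Agent.Mrg.Omega.IId.OneOf
import Cfsg.Agent.Mrg.Omega.IId.CaseA


/-!
# II.d, CASE 1, `q = 2`: the end

helper310.  Case B: `⟨C₁, C₂⟩ = F₄(2)` (helper370's `ident`), `s` normalises it: helper370's `false_two`.  Case A:
helper64's `caseA`.  So `NoOne K` for all `K`.
-/

set_option autoImplicit false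

namespace Cfsg.Agent.Omega.IId.Pf.Main

open Cfsg.Agent.Omega.TV hiding z2
open Subgroup Cfsg Cfsg.Agent.ZN Cfsg.Agent.Omega.IId.One
open Cfsg.Agent.Omega.MinPar
open Cfsg.Agent.Omega.IId.Pf.Sys Cfsg.Agent.Omega.IId.Pf.Card
open Cfsg.Agent.ParSys Cfsg.Agent.ParSys.FreeCount

universe u

variable {G : Type u} [Group G]

/-- **CASE B** -/
theorem caseB [Finite G] {T V₁ V₂ L₁ L₂ : Subgroup G} {v₁ v₂ s : G} (h : One.One T V₁ V₂ L₁ L₂ v₁ v₂ s)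
    (hnl : NonLoc (cz v₁) (cz v₂)) (hI : ∃ x ∈ nc v₁ {v₂}, ∃ y ∈ nc v₂ {v₁}, x * y ≠ y * x) : False := by
  have hb := h.toBase
  have hsys := sysL h hnl hI
  have hTG : T ≤ cz v₁ ⊔ cz v₂ := hb.T_le.trans le_sup_left
  have hcT : Nat.card (T.subgroupOf (cz v₁ ⊔ cz v₂)) = Nat.card T :=
    Nat.card_congr (subgroupOfEquivOfLe hTG).toEquiv
  have hge := card_T h hnl hI
  have hQ := hasQ_F4 (M := CoxeterMatrix.F₄) (q := fun _ => 2) (Equiv.refl _) rfl (x := 2) (y := 2)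
    (fun i => by simp)
  have hle := FreeLieLoc.card_le hQ hsys
  rw [hcT] at hle
  have hcard : Nat.card T = 2 ^ 24 := by
    have : (2 : ℕ) ^ 12 * 2 ^ 12 = 2 ^ 24 := by norm_num
    omega
  obtain ⟨e⟩ := FFour.Ident.ident (Equiv.refl _) rfl hsys (by rw [hcT]; exact hge) fun g hg hx => by
    apply Subtype.ext
    exact core h hnl hI hg fun x hxG => hx ⟨x, hxG⟩
  let f : FourTwo.Base.LL →* G := (cz v₁ ⊔ cz v₂ : Subgroup G).subtype.comp e.toMonoidHom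
  have hf : Function.Injective f := (cz v₁ ⊔ cz v₂ : Subgroup G).subtype_injective.comp e.injective
  have hr : f.range = cz v₁ ⊔ cz v₂ := by
    ext x
    constructor
    · rintro ⟨y, rfl⟩
      exact (e y).2
    · intro hx
      exact ⟨e.symm ⟨x, hx⟩, by show ((e (e.symm ⟨x, hx⟩) : (cz v₁ ⊔ cz v₂ : Subgroup G)) : G) = x; simp⟩
  refine FFour.false_two (s := s) (v₁ := v₁) (T := T) h.C2T f hf ?_ ?_ ?_ hcard h.sT h.Tv1 ?_ ?_
  · rw [hr]
    apply Cfsg.Agent.MinSimple.VModule.mem_normalizer_of_map_le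
    rw [Subgroup.map_sup, cz_map h.sv1, cz_map h.sv2, sup_comm]
  · rw [hr]
    exact (le_sup_left : cz v₁ ≤ cz v₁ ⊔ cz v₂) (mem_cz.2 rfl)
  · rw [hr]
    exact hTG
  · rw [h.sv1]
    exact hb.ne.symm
  · rw [hr]
    exact le_sup_left

/-- **no configuration `One` with `⟨C₁, C₂⟩` nonlocal** -/
theorem false_of [Finite G] {T V₁ V₂ L₁ L₂ : Subgroup G} {v₁ v₂ s : G} (h : One.One T V₁ V₂ L₁ L₂ v₁ v₂ s)
    (hnl : NonLoc (cz v₁) (cz v₂)) : False := by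
  by_cases hI : ∃ x ∈ nc v₁ {v₂}, ∃ y ∈ nc v₂ {v₁}, x * y ≠ y * x
  · exact caseB h hnl hI
  · push Not at hI
    exact h.caseA hnl hI

/-- **`NoOne K` for all `K`.** -/
theorem noOne {K : Cfsg.Agent.Omega.Frame.Cls.{u}} : NoOne K := by
  intro G _ _ S hH T V₁ V₂ L₁ L₂ v₁ v₂ s _ _ _ hO hN
  exact false_of hO hN

/-- **CASE 1, `q = 2`** -/
theorem wrMain2 {K : Cfsg.Agent.Omega.Frame.Cls.{u}} : WrMain2 K := IId.wrMain2 noOne

end Cfsg.Agent.Omega.IId.Pf.Main
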