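import Cfsg.Agent.Mrg.Omega.IId.PlaneOf
import Cfsg.Agent.Mrg.ParSys.Main
import Cfsg.Agent.Mrg.Omega.IId.PlaneSy
import Cfsg.Agent.Mrg.ParSys.FreeTrans

section


/-!
# II.d, CASE 1, `q = 2`, case B: the minimal parabolics

helper310.  `PE v V₁ V₂ = C_G(v) ∩ N(V₁) ∩ N(V₂)`, `PM v₁ v₂ V = C_G(v₁) ∩ C_G(v₂) ∩ N(V)`; the indices of `T` are 3, and
they generate `⟨C₁, C₂⟩`.
-/

set_option autoImplicit false
set_option linter.unusedSectionVars false
set_option linter.unusedVariables false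

namespace Cfsg.Agent.Omega.IId.Pf.Idx

open Cfsg.Agent.Omega.TV hiding z2
open Subgroup Cfsg Cfsg.Agent.ZN Cfsg.Agent.Omega.IId.PlaneSy Cfsg.Agent.Omega.IId.PlaneRk
open Cfsg.Agent.Omega.IId.PlaneF Cfsg.Agent.Omega.IId.PlaneOf
open Cfsg.Agent.Omega.IId.One Cfsg.Agent.Omega.IId.SpSide
open Cfsg.Agent.Omega.MinPar
open Cfsg.Agent.Omega.NoFF.Basic
open Cfsg.Agent.Omega.IId.Pf.Rad Cfsg.Agent.Omega.IId.Pf.Par
open Cfsg.Agent.Omega.IId.Two (le_normalizer_of)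
open scoped Pointwise commutatorElement

universe u

variable {G : Type u} [Group G]

/-- Orbit-stabiliser. -/
theorem relIndex_orbit {α : Type*} {T P : Subgroup G} (φ : G → α) (Ω : Set α)
    (hT : ∀ x ∈ P, ∀ y ∈ P, φ x = φ y ↔ x⁻¹ * y ∈ T) (hmem : ∀ x ∈ P, φ x ∈ Ω)
    (hsur : ∀ ω ∈ Ω, ∃ x ∈ P, φ x = ω) : T.relIndex P = Ω.ncard := by
  have h1 : Set.range (fun a : P ⧸ T.subgroupOf P => φ (a.out : P)) = Ω := by
    ext ω
    constructor
    · rintro ⟨a, rfl⟩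
      exact hmem _ (a.out : P).2
    · intro hω
      obtain ⟨x, hx, rfl⟩ := hsur ω hω
      refine ⟨((⟨x, hx⟩ : P) : P ⧸ T.subgroupOf P), ?_⟩
      show φ ((((⟨x, hx⟩ : P) : P ⧸ T.subgroupOf P).out : P) : G) = φ x
      rw [hT _ (Subtype.property _) _ hx]
      have h2 := QuotientGroup.out_eq' ((⟨x, hx⟩ : P) : P ⧸ T.subgroupOf P)
      rw [QuotientGroup.eq] at h2
      exact h2
  have h2 : Function.Injective (fun a : P ⧸ T.subgroupOf P => φ (a.out : P)) := by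
    intro a b h3
    have h4 := (hT _ (a.out : P).2 _ (b.out : P).2).1 h3
    rw [← QuotientGroup.out_eq' a, ← QuotientGroup.out_eq' b, QuotientGroup.eq]
    exact h4
  rw [← h1, Set.ncard_range_of_injective h2]
  rfl

/-- `|A ∖ {1}|` -/
theorem ncard_one [Finite G] (A : Subgroup G) : {x | x ∈ A ∧ x ≠ 1}.ncard + 1 = Nat.card A := by
  have h1 : (A : Set G) = insert 1 {x | x ∈ A ∧ x ≠ 1} := by
    ext x
    simp only [SetLike.mem_coe, Set.mem_insert_iff, Set.mem_ofPred_eq]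
    constructor
    · intro hx
      by_cases h : x = 1
      · exact Or.inl h
      · exact Or.inr ⟨hx, h⟩
    · rintro (rfl | h)
      · exact one_mem _
      · exact h.1
  have h2 : Nat.card A = (A : Set G).ncard := Nat.card_coe_set_eq _
  rw [h2, h1, Set.ncard_insert_of_notMem (by simp)]

theorem ncard_two [Finite G] {A : Subgroup G} {r : G} (hr : r ∈ A) (hr1 : r ≠ 1) :
    {x | x ∈ A ∧ x ≠ 1 ∧ x ≠ r}.ncard + 2 = Nat.card A := by
  have h1 : {x | x ∈ A ∧ x ≠ 1} = insert r {x | x ∈ A ∧ x ≠ 1 ∧ x ≠ r} := by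
    ext x
    simp only [Set.mem_insert_iff, Set.mem_ofPred_eq]
    constructor
    · rintro ⟨hx, h⟩
      by_cases h2 : x = r
      · exact Or.inl h2
      · exact Or.inr ⟨hx, h, h2⟩
    · rintro (rfl | h)
      · exact ⟨hr, hr1⟩
      · exact ⟨h.1, h.2.1⟩
  rw [← ncard_one A, h1, Set.ncard_insert_of_notMem (by simp)]

theorem conj_eq_iff {x y v : G} : x * v * x⁻¹ = y * v * y⁻¹ ↔ x⁻¹ * y ∈ cz v := by
  rw [mem_cz]
  constructor
  · intro h
    calc x⁻¹ * y * v = x⁻¹ * (y * v * y⁻¹) * y := by group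
      _ = v * (x⁻¹ * y) := by rw [← h]; group
  · intro h
    calc x * v * x⁻¹ = x * (v * (x⁻¹ * y)) * y⁻¹ := by group
      _ = y * v * y⁻¹ := by rw [← h]; group

/-- `C_G(v) ∩ N(V₁) ∩ N(V₂)` -/
def PE (v : G) (V₁ V₂ : Subgroup G) : Subgroup G := cz v ⊓ (normalizer (V₁ : Set G) ⊓ normalizer (V₂ : Set G))

/-- `C_G(v₁) ∩ C_G(v₂) ∩ N(V)` -/
def PM (v₁ v₂ : G) (V : Subgroup G) : Subgroup G := cz v₁ ⊓ cz v₂ ⊓ normalizer (V : Set G)

theorem mem_PE {v x : G} {V₁ V₂ : Subgroup G} :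
    x ∈ PE v V₁ V₂ ↔ x ∈ cz v ∧ x ∈ normalizer (V₁ : Set G) ∧ x ∈ normalizer (V₂ : Set G) := Iff.rfl

theorem mem_PM {v₁ v₂ x : G} {V : Subgroup G} :
    x ∈ PM v₁ v₂ V ↔ (x ∈ cz v₁ ∧ x ∈ cz v₂) ∧ x ∈ normalizer (V : Set G) := Iff.rfl

theorem PE_comm (v : G) (V₁ V₂ : Subgroup G) : PE v V₂ V₁ = PE v V₁ V₂ := by
  unfold PE; rw [inf_comm (normalizer (V₂ : Set G))]

theorem PM_comm (v₁ v₂ : G) (V : Subgroup G) : PM v₂ v₁ V = PM v₁ v₂ V := by
  unfold PM; rw [inf_comm (cz v₂)]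

section main

variable [Finite G] {T V₁ V₂ L₁ L₂ : Subgroup G} {v₁ v₂ s : G}

section base

variable (h : Base T V₁ V₂ L₁ L₂ v₁ v₂ s)
include h

omit [Finite G] in
theorem T_PE : T ≤ PE v₁ V₁ V₂ := le_inf h.T_le (le_inf h.T_norm1 h.T_norm2)

omit [Finite G] in
theorem T_PM : T ≤ PM v₁ v₂ V₁ := le_inf h.T_leM h.T_norm1

omit [Finite G] in
theorem L2_norm1 : L₂ ≤ normalizer (V₁ : Set G) := le_normalizer_of fun k hk v hv => by
  rw [h.L21 k hk v hv, mul_inv_cancel_right]; exact hv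

omit [Finite G] in
theorem L2_PE : L₂ ≤ PE v₁ V₁ V₂ := le_inf h.L2_le (le_inf (L2_norm1 h) h.L_norm2)

end base

variable (h : One T V₁ V₂ L₁ L₂ v₁ v₂ s) (hnl : NonLoc (cz v₁) (cz v₂))
  (hI : ∃ x ∈ nc v₁ {v₂}, ∃ y ∈ nc v₂ {v₁}, x * y ≠ y * x) {v' w l : G} (hl : l ∈ L₁)
  (P : Plane V₁ V₂ v₁ v₂ v' w l)

include h hnl hI hl P

theorem T_iff {x : G} : x ∈ T ↔ x ∈ cz v₁ ∧ x ∈ cz v₂ ∧ x ∈ normalizer (V₁ : Set G) ∧ x ∈ normalizer (V₂ : Set G) := by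
  have e := mem_T h hnl hI hl P
  have e2 : x ∈ T ↔ x ∈ cz v₁ ⊓ cz v₂ ⊓ normalizer (V₁ : Set G) ⊓ normalizer (V₂ : Set G) := by
    conv_lhs => rw [e]
  rw [e2]
  exact ⟨fun hx => ⟨hx.1.1.1, hx.1.1.2, hx.1.2, hx.2⟩, fun hx => ⟨⟨⟨hx.1, hx.2.1⟩, hx.2.2.1⟩, hx.2.2.2⟩⟩

/-- `|P₄ : T| = 3` -/
theorem idx_PE : T.relIndex (PE v₁ V₁ V₂) = 3 := by
  have h1 := relIndex_orbit (T := T) (P := PE v₁ V₁ V₂) (fun g => g * v₂ * g⁻¹) {x | x ∈ V₂ ∧ x ≠ 1} ?_ ?_ ?_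
  · have h2 := ncard_one V₂
    rw [h.card2] at h2
    omega
  · intro x hx y hy
    rw [conj_eq_iff, T_iff h hnl hI hl P]
    have hxy := mul_mem (inv_mem hx) hy
    exact ⟨fun e => ⟨hxy.1, e, hxy.2.1, hxy.2.2⟩, fun e => e.2.1⟩
  · intro x hx
    refine ⟨(mem_normalizer_iff.1 hx.2.2 _).1 h.vV2, fun e => h.v2 ?_⟩
    calc v₂ = x⁻¹ * (x * v₂ * x⁻¹) * x := by group
      _ = 1 := by rw [e]; group
  · rintro x ⟨hx, hx1⟩
    obtain ⟨k, hk, e⟩ := h.t2 v₂ h.vV2 h.v2 x hx hx1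
    exact ⟨k, L2_PE h.toBase hk, e⟩

/-- `N_M(R)` is transitive on `R ∖ ⟨v₂⟩`. -/
theorem move {u x : G} (hu : u ∈ V₂) (hu1 : u ≠ 1) (hur : u ≠ v₂) (hx : x ∈ RR v₁ v₂ l) (hx1 : x ≠ 1) (hxr : x ≠ v₂) :
    ∃ m ∈ PM v₁ v₂ V₁, m * u * m⁻¹ = x := by
  have huR := P.V2R hu
  have huN := P.rk.RN huR
  have huu := P.rk.o.sq u huN
  obtain ⟨m, hm, hmR, -, hmu, -⟩ := siegel' P.rk P.four (x := u) (y := u * x) huR (mul_mem huR hx) hu1 hur
    (fun e => hx1 (by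
      calc x = u * (u * x) := by rw [← mul_assoc, huu, one_mul]
        _ = 1 := by rw [← e, huu])) (fun e => hxr (mul_left_cancel e).symm)
  rw [← mul_assoc, huu, one_mul] at hmu
  exact ⟨m, ⟨hm, nM h hI P hm.1 hm.2 hmR⟩, hmu⟩

omit [Finite G] hnl hl in
/-- an element of `M` mapping `u ∈ V₂` into `V₂` normalises `V₂` -/
theorem norm_V2 {u m : G} [Finite G] (hu : u ∈ V₂) (hu1 : u ≠ 1) (hur : u ≠ v₂) (hm : m ∈ cz v₂) (hmu : m * u * m⁻¹ ∈ V₂) :
    m ∈ normalizer (V₂ : Set G) := by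
  apply Cfsg.Agent.MinSimple.VModule.mem_normalizer_of_map_le
  rintro _ ⟨x, hx, rfl⟩
  show m * x * m⁻¹ ∈ V₂
  have hmr : m * v₂ * m⁻¹ = v₂ := by rw [mem_cz.1 hm, mul_inv_cancel_right]
  rcases h.toBase.symm.mem_V1 hx hu hu1 hur with rfl | rfl | rfl | rfl
  · simp
  · rw [hmr]; exact h.vV2
  · exact hmu
  · have e : m * (v₂ * u) * m⁻¹ = m * v₂ * m⁻¹ * (m * u * m⁻¹) := by group
    rw [e, hmr]
    exact mul_mem h.vV2 hmu

/-- `|P₃ : T| = 3` -/
theorem idx_PM : T.relIndex (PM v₁ v₂ V₁) = 3 := by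
  obtain ⟨u, hu, hu1, hur⟩ := exists_x h.symm
  have huR := P.V2R hu
  have hb := h.toBase
  have hne : ∀ m : G, m ∈ cz v₂ → m * u * m⁻¹ ≠ 1 ∧ m * u * m⁻¹ ≠ v₂ := by
    intro m hm
    refine ⟨fun e => hu1 ?_, fun e => hur ?_⟩
    · calc u = m⁻¹ * (m * u * m⁻¹) * m := by group
        _ = 1 := by rw [e]; group
    · calc u = m⁻¹ * (m * u * m⁻¹) * m := by group
        _ = m⁻¹ * (v₂ * m) := by rw [e]; group
        _ = v₂ := by rw [← mem_cz.1 hm]; group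
  have h6 := relIndex_orbit (T := T ⊓ cz u) (P := PM v₁ v₂ V₁) (fun g => g * u * g⁻¹)
    {x | x ∈ RR v₁ v₂ l ∧ x ≠ 1 ∧ x ≠ v₂} ?_ ?_ ?_
  · have h2 := relIndex_orbit (T := T ⊓ cz u) (P := T) (fun g => g * u * g⁻¹) {x | x ∈ V₂ ∧ x ≠ 1 ∧ x ≠ v₂} ?_ ?_ ?_
    · have c6 := ncard_two (A := RR v₁ v₂ l) P.rk.rR h.v2
      have c2 := ncard_two (A := V₂) h.vV2 h.v2
      have c8 : Nat.card (RR v₁ v₂ l) = 8 := P.rk.card_eq P.four
      rw [c8] at c6
      rw [h.card2] at c2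
      have h3 := relIndex_mul_relIndex (T ⊓ cz u) T (PM v₁ v₂ V₁) inf_le_left (T_PM hb)
      rw [h2, h6] at h3
      have e2 : {x | x ∈ V₂ ∧ x ≠ 1 ∧ x ≠ v₂}.ncard = 2 := by omega
      rw [e2] at h3
      omega
    · intro x hx y hy
      rw [conj_eq_iff]
      exact ⟨fun e => ⟨T.mul_mem (T.inv_mem hx) hy, e⟩, fun e => e.2⟩
    · intro x hx
      exact ⟨h.T2 x hx u hu, hne x (hb.T_le2 hx)⟩
    · rintro x ⟨hx, hx1, hxr⟩
      obtain ⟨m, hm, e⟩ := move h hnl hI hl P hu hu1 hur (P.V2R hx) hx1 hxr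
      refine ⟨m, (T_iff h hnl hI hl P).2 ⟨hm.1.1, hm.1.2, hm.2, ?_⟩, e⟩
      exact norm_V2 h hI P hu hu1 hur hm.1.2 (by rw [e]; exact hx)
  · intro x hx y hy
    rw [conj_eq_iff]
    have hxy := mul_mem (inv_mem hx) hy
    refine ⟨fun e => ⟨(T_iff h hnl hI hl P).2 ⟨hxy.1.1, hxy.1.2, hxy.2, ?_⟩, e⟩, fun e => e.2⟩
    refine norm_V2 h hI P hu hu1 hur hxy.1.2 ?_
    rw [mem_cz.1 e, mul_inv_cancel_right]
    exact hu
  · intro x hx
    have hxR : x ∈ normalizer (RR v₁ v₂ l : Set G) := P.nor ⟨hx.1.1, hx.2⟩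
    exact ⟨(mem_normalizer_iff.1 hxR u).1 huR, hne x hx.1.2⟩
  · rintro x ⟨hx, hx1, hxr⟩
    exact move h hnl hI hl P hu hu1 hur hx hx1 hxr

/-- `M = ⟨P₂, P₃⟩` -/
theorem gen_M : cz v₁ ⊓ cz v₂ ≤ PM v₁ v₂ V₁ ⊔ PM v₁ v₂ V₂ := by
  obtain ⟨u, hu, hu1, hur⟩ := exists_x h.symm
  have o₁ := P.rk.o
  have hs := sy_perp (sy_of o₁) o₁.r_mem
  have hb := h.toBase
  obtain ⟨hup, huy⟩ := pt_mem h.symm o₁ hb.symm hu hu1 hur
  -- an element of `R ∖ V₂`
  obtain ⟨x, hx, hxV⟩ : ∃ x ∈ RR v₁ v₂ l, x ∉ V₂ := by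
    by_contra hcon
    push Not at hcon
    have h1 := Subgroup.card_le_of_le (show RR v₁ v₂ l ≤ V₂ from hcon)
    have c8 : Nat.card (RR v₁ v₂ l) = 8 := P.rk.card_eq P.four
    rw [c8, h.card2] at h1
    omega
  obtain ⟨m, hm, e⟩ := move h hnl hI hl P hu hu1 hur hx (fun e => hxV (e ▸ one_mem _)) (fun e => hxV (e ▸ h.vV2))
  refine hs.perp_gen (p := u) (k := m) hup huy ?_ (mem_sup_left hm) ⟨hm.1.1, hm.1.2⟩ ?_ ?_
  · intro g hg e1
    apply mem_sup_right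
    exact ⟨hg, (stab_iff h.symm o₁ hu hu1 hur hg).1 e1⟩
  · rw [e]
    exact P.rk.iso u (P.V2R hu) x hx
  · rw [e]
    intro e1
    apply hxV
    have huN := o₁.sq u (P.rk.RN (P.V2R hu))
    have huxR : u * x ∈ RR v₁ v₂ l := mul_mem (P.V2R hu) hx
    have hcR : v₁ ∉ RR v₁ v₂ l := P.rk.cR
    have hrR : v₂ ∈ RR v₁ v₂ l := P.rk.rR
    have hx2 : x = u * (u * x) := by rw [← mul_assoc, huN, one_mul]
    rcases mem_yr' h.symm o₁ e1 with e2 | e2 | e2 | e2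
    · rw [hx2, e2, mul_one]; exact hu
    · exfalso
      apply hcR
      rwa [e2] at huxR
    · rw [hx2, e2]; exact mul_mem hu h.vV2
    · exfalso
      apply hcR
      have e3 := mul_mem (inv_mem hrR) huxR
      have e4 : v₂⁻¹ * (v₂ * v₁) = v₁ := by group
      rwa [e2, e4] at e3

end main

end Cfsg.Agent.Omega.IId.Pf.Idx

end

section


/-!
# II.d, CASE 1, `q = 2`, case B: the digons and the projective planes

helper310.
-/

set_option autoImplicit false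
set_option linter.unusedSectionVars false
set_option linter.unusedVariables false

namespace Cfsg.Agent.Omega.IId.Pf.Geo

open Cfsg.Agent.Omega.TV hiding z2
open Subgroup Cfsg Cfsg.Agent.ZN Cfsg.Agent.Omega.IId.PlaneSy Cfsg.Agent.Omega.IId.PlaneRk
open Cfsg.Agent.Omega.IId.PlaneF Cfsg.Agent.Omega.IId.PlaneOf
open Cfsg.Agent.Omega.IId.One Cfsg.Agent.Omega.IId.SpSide
open Cfsg.Agent.Omega.IId.SpForm (two_mul_card_le)
open Cfsg.Agent.Omega.MinPar
open Cfsg.Agent.Omega.NoFF.Basic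
open Cfsg.Agent.Omega.IId.Pf.Rad Cfsg.Agent.Omega.IId.Pf.Par Cfsg.Agent.Omega.IId.Pf.Idx
open Cfsg.Agent.ParSys Cfsg.Agent.ParSys.Free Cfsg.Agent.ParSys.RankTwo Cfsg.Agent.ParSys.FlagGP
open scoped Pointwise commutatorElement

universe u

variable {G : Type u} [Group G]

/-! ### The actions by conjugation -/

/-- elements of `G`, `G` acts by conjugation -/
structure Pt (G : Type u) where
  val : G

/-- subgroups of `G`, `G` acts by conjugation -/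
structure Ln (G : Type u) [Group G] where
  val : Subgroup G

instance : MulAction G (Pt G) where
  smul g x := ⟨g * x.val * g⁻¹⟩
  one_smul x := by
    show Pt.mk (1 * x.val * 1⁻¹) = x
    simp
  mul_smul g k x := by
    show Pt.mk (g * k * x.val * (g * k)⁻¹) = Pt.mk (g * (k * x.val * k⁻¹) * g⁻¹)
    simp [mul_assoc]

instance : MulAction G (Ln G) where
  smul g L := ⟨MulAut.conj g • L.val⟩
  one_smul L := by
    show Ln.mk (MulAut.conj 1 • L.val) = L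
    rw [map_one, one_smul]
  mul_smul g k L := by
    show Ln.mk (MulAut.conj (g * k) • L.val) = Ln.mk (MulAut.conj g • (MulAut.conj k • L.val))
    rw [map_mul, mul_smul]

theorem pt_smul (g : G) (x : Pt G) : (g • x).val = g * x.val * g⁻¹ := rfl
theorem ln_smul (g : G) (L : Ln G) : (g • L).val = MulAut.conj g • L.val := rfl

theorem pt_ext {x y : Pt G} (h : x.val = y.val) : x = y := by
  cases x; cases y; cases h; rfl

theorem ln_ext {x y : Ln G} (h : x.val = y.val) : x = y := by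
  cases x; cases y; cases h; rfl

theorem mem_sm {g x : G} {A : Subgroup G} : g * x * g⁻¹ ∈ MulAut.conj g • A ↔ x ∈ A := by
  rw [mem_conj]
  rw [show g⁻¹ * (g * x * g⁻¹) * g = x by group]

/-! ### Klein four groups -/

/-- `{1, x, y, xy}` -/
def kl {x y : G} (hx : x * x = 1) (hy : y * y = 1) (hc : x * y = y * x) : Subgroup G where
  carrier := {t | t = 1 ∨ t = x ∨ t = y ∨ t = x * y}
  one_mem' := Or.inl rfl
  mul_mem' := by
    have e1 : x * (x * y) = y := by rw [← mul_assoc, hx, one_mul]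
    have e2 : y * (x * y) = x := by rw [hc, ← mul_assoc, hy, one_mul]
    have e3 : x * y * x = y := by rw [hc, mul_assoc, hx, mul_one]
    have e4 : x * y * y = x := by rw [mul_assoc, hy, mul_one]
    have e5 : x * y * (x * y) = 1 := by rw [mul_assoc, e2, hx]
    have e6 : y * x = x * y := hc.symm
    rintro a b (rfl | rfl | rfl | rfl) (rfl | rfl | rfl | rfl) <;> simp [e1, e2, e3, e4, e5, e6, hx, hy]
  inv_mem' := by
    have hx' : x⁻¹ = x := inv_eq_of_mul_eq_one_left hx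
    have hy' : y⁻¹ = y := inv_eq_of_mul_eq_one_left hy
    rintro a (rfl | rfl | rfl | rfl) <;> simp [hx', hy', ← hc]

theorem mem_kl {x y t : G} {hx : x * x = 1} {hy : y * y = 1} {hc : x * y = y * x} :
    t ∈ kl hx hy hc ↔ t = 1 ∨ t = x ∨ t = y ∨ t = x * y := Iff.rfl

theorem card_kl [Finite G] {x y : G} {hx : x * x = 1} {hy : y * y = 1} {hc : x * y = y * x} (hx1 : x ≠ 1)
    (hy1 : y ≠ 1) (hxy : x ≠ y) : Nat.card (kl hx hy hc) = 4 := by
  apply le_antisymm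
  · classical
    have h5 : (kl hx hy hc : Set G) ⊆ (({1, x, y, x * y} : Finset G) : Set G) := by
      intro t ht
      have ht : t = 1 ∨ t = x ∨ t = y ∨ t = x * y := ht
      simpa using ht
    have h6 := Set.ncard_le_ncard h5 (Finset.finite_toSet _)
    rw [Set.ncard_coe_finset] at h6
    have h7 : Nat.card (kl hx hy hc) = (kl hx hy hc : Set G).ncard := Nat.card_coe_set_eq _
    have h9 : ({1, x, y, x * y} : Finset G).card ≤ 4 := Finset.card_le_four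
    omega
  · have h1 : Nat.card (zpowers x) = 2 := by
      rw [Nat.card_zpowers]
      exact orderOf_eq_prime (by rw [pow_two, hx]) hx1
    have h2 := two_mul_card_le (K := zpowers x) (H := kl hx hy hc) (zpowers_le.2 (Or.inr (Or.inl rfl)))
      ⟨y, Or.inr (Or.inr (Or.inl rfl)), fun e => by
        rcases (mem_zp2 hx).1 e with e | e
        · exact hy1 e
        · exact hxy e.symm⟩
    omega

theorem eq_kl [Finite G] {x y : G} {hx : x * x = 1} {hy : y * y = 1} {hc : x * y = y * x} (hx1 : x ≠ 1)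
    (hy1 : y ≠ 1) (hxy : x ≠ y) {L : Subgroup G} (hL : Nat.card L = 4) (h1 : x ∈ L) (h2 : y ∈ L) :
    L = kl hx hy hc := by
  refine (Subgroup.eq_of_le_of_card_ge ?_ (by rw [hL, card_kl hx1 hy1 hxy])).symm
  rintro t (rfl | rfl | rfl | rfl)
  · exact one_mem _
  · exact h1
  · exact h2
  · exact mul_mem h1 h2

/-- a subgroup of index 2 -/
theorem quo_two [Finite G] {A R : Subgroup G} (hA : A ≤ R) (hc : Nat.card R = 2 * Nat.card A) {x y : G}
    (hx : x ∈ R) (hy : y ∈ R) (hx2 : x ∉ A) (hy2 : y ∉ A) : x * y ∈ A := by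
  have h5 : (A.subgroupOf R).index = 2 := by
    have h6 := (A.subgroupOf R).card_mul_index
    rw [Nat.card_congr (subgroupOfEquivOfLe hA).toEquiv, hc, mul_comm 2] at h6
    exact Nat.eq_of_mul_eq_mul_left Nat.card_pos h6
  exact (mul_mem_iff_of_index_two h5 (a := ⟨x, hx⟩) (b := ⟨y, hy⟩)).2 ⟨fun e => absurd e hx2, fun e => absurd e hy2⟩

/-! ### The digons -/

theorem inv_mul {A : Subgroup G} {x y : G} (hx : x ∈ A) (hy : y ∈ A) : x⁻¹ * y ∈ A := A.mul_mem (A.inv_mem hx) hy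

theorem swap_mul {A B : Subgroup G} (h : ∀ p ∈ A, ∀ q ∈ B, ∃ q' ∈ B, ∃ p' ∈ A, p * q = q' * p') :
    ∀ q ∈ B, ∀ p ∈ A, ∃ p' ∈ A, ∃ q' ∈ B, q * p = p' * q' := by
  intro q hq p hp
  obtain ⟨q', hq', p', hp', e⟩ := h p⁻¹ (inv_mem hp) q⁻¹ (inv_mem hq)
  refine ⟨p'⁻¹, inv_mem hp', q'⁻¹, inv_mem hq', ?_⟩
  rw [← mul_inv_rev, ← e, mul_inv_rev, inv_inv, inv_inv]

section main

variable [Finite G] {T V₁ V₂ L₁ L₂ : Subgroup G} {v₁ v₂ s : G} {I : Type*} {PP : I → Subgroup G} {i j : I}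

theorem digon_E (h : Base T V₁ V₂ L₁ L₂ v₁ v₂ s)
    (hT : ∀ x, x ∈ T ↔ x ∈ cz v₁ ∧ x ∈ cz v₂ ∧ x ∈ normalizer (V₁ : Set G) ∧ x ∈ normalizer (V₂ : Set G))
    (hBP : ∀ i, T ≤ PP i) (hi : PP i = PE v₂ V₁ V₂) (hj : PP j = PE v₁ V₁ V₂) :
    GPp T PP i j 2 ∧ GPp T PP j i 2 := by
  have hinf : ∀ x, x ∈ PP i → x ∈ PP j → x ∈ T := fun x hx hy => by
    rw [hi] at hx
    rw [hj] at hy
    exact (hT x).2 ⟨hy.1, hx.1, hx.2.1, hx.2.2⟩
  have hm : ∀ p ∈ PP i, ∀ q ∈ PP j, ∃ q' ∈ PP j, ∃ p' ∈ PP i, p * q = q' * p' := by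
    intro p hp q hq
    rw [hi] at hp
    rw [hj] at hq
    have hpq : p * q ∈ normalizer (V₂ : Set G) := mul_mem hp.2.2 hq.2.2
    have h1 : p * q * v₂ * (p * q)⁻¹ ∈ V₂ := (mem_normalizer_iff.1 hpq v₂).1 h.vV2
    have h2 : p * q * v₂ * (p * q)⁻¹ ≠ 1 := fun e => h.v2 (by
      calc v₂ = (p * q)⁻¹ * (p * q * v₂ * (p * q)⁻¹) * (p * q) := by group
        _ = 1 := by rw [e]; group)
    obtain ⟨k, hk, e⟩ := h.t2 v₂ h.vV2 h.v2 _ h1 h2
    have hk' := L2_PE h hk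
    refine ⟨k, by rw [hj]; exact hk', k⁻¹ * (p * q), ?_, by group⟩
    rw [hi]
    exact ⟨conj_eq_iff.1 e, inv_mul hk'.2.1 (mul_mem hp.2.1 hq.2.1), inv_mul hk'.2.2 hpq⟩
  exact ⟨gpp_two hBP hinf hm, gpp_two hBP (fun x hx hy => hinf x hy hx) (swap_mul hm)⟩

theorem digon_M (h : Base T V₁ V₂ L₁ L₂ v₁ v₂ s)
    (hT : ∀ x, x ∈ T ↔ x ∈ cz v₁ ∧ x ∈ cz v₂ ∧ x ∈ normalizer (V₁ : Set G) ∧ x ∈ normalizer (V₂ : Set G))
    (hBP : ∀ i, T ≤ PP i) (hi : PP i = PM v₁ v₂ V₂) (hj : PP j = PE v₁ V₁ V₂) :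
    GPp T PP i j 2 ∧ GPp T PP j i 2 := by
  have hinf : ∀ x, x ∈ PP i → x ∈ PP j → x ∈ T := fun x hx hy => by
    rw [hi] at hx
    rw [hj] at hy
    exact (hT x).2 ⟨hy.1, hx.1.2, hy.2.1, hy.2.2⟩
  have hm : ∀ p ∈ PP i, ∀ q ∈ PP j, ∃ q' ∈ PP j, ∃ p' ∈ PP i, p * q = q' * p' := by
    intro p hp q hq
    rw [hi] at hp
    rw [hj] at hq
    have hpq : p * q ∈ normalizer (V₂ : Set G) := mul_mem hp.2 hq.2.2
    have h1 : p * q * v₂ * (p * q)⁻¹ ∈ V₂ := (mem_normalizer_iff.1 hpq v₂).1 h.vV2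
    have h2 : p * q * v₂ * (p * q)⁻¹ ≠ 1 := fun e => h.v2 (by
      calc v₂ = (p * q)⁻¹ * (p * q * v₂ * (p * q)⁻¹) * (p * q) := by group
        _ = 1 := by rw [e]; group)
    obtain ⟨k, hk, e⟩ := h.t2 v₂ h.vV2 h.v2 _ h1 h2
    have hk' := L2_PE h hk
    refine ⟨k, by rw [hj]; exact hk', k⁻¹ * (p * q), ?_, by group⟩
    rw [hi]
    exact ⟨⟨inv_mul hk'.1 (mul_mem hp.1.1 hq.1), conj_eq_iff.1 e⟩, inv_mul hk'.2.2 hpq⟩
  exact ⟨gpp_two hBP hinf hm, gpp_two hBP (fun x hx hy => hinf x hy hx) (swap_mul hm)⟩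

/-! ### The projective plane -/

/-- points of the plane -/
def ptR (R : Subgroup G) : Set (Pt G) := fun x => x.val ∈ R ∧ x.val ≠ 1

/-- lines of the plane -/
def lnR (R : Subgroup G) : Set (Ln G) := fun L => L.val ≤ R ∧ Nat.card L.val = 4

def inc (x : Pt G) (L : Ln G) : Prop := x.val ∈ L.val

theorem mem_ptR {R : Subgroup G} {x : Pt G} : x ∈ ptR R ↔ x.val ∈ R ∧ x.val ≠ 1 := Iff.rfl
theorem mem_lnR {R : Subgroup G} {L : Ln G} : L ∈ lnR R ↔ L.val ≤ R ∧ Nat.card L.val = 4 := Iff.rfl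

variable (h : One T V₁ V₂ L₁ L₂ v₁ v₂ s) (hnl : NonLoc (cz v₁) (cz v₂))
  (hI : ∃ x ∈ nc v₁ {v₂}, ∃ y ∈ nc v₂ {v₁}, x * y ≠ y * x) {v' w l : G} (hl : l ∈ L₁)
  (P : Plane V₁ V₂ v₁ v₂ v' w l)

include h hnl hI hl P

/-- `N_M(R)` is transitive on the lines of `R` through `v₂`. -/
theorem move_line {L : Subgroup G} (hLR : L ≤ RR v₁ v₂ l) (hL : Nat.card L = 4) (hr : v₂ ∈ L) :
    ∃ g ∈ PM v₁ v₂ V₁, MulAut.conj g • V₂ = L := by
  obtain ⟨u, hu, hu1, hur⟩ := exists_x h.symm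
  obtain ⟨x, hx, hx1, hxr⟩ : ∃ x ∈ L, x ≠ 1 ∧ x ≠ v₂ := by
    by_contra hcon
    push Not at hcon
    have h1 : L ≤ zpowers v₂ := fun t ht => by
      rw [mem_zp2 h.toBase.vq2]
      by_cases ht1 : t = 1
      · exact Or.inl ht1
      · exact Or.inr (hcon t ht ht1)
    have h2 := Subgroup.card_le_of_le h1
    rw [Nat.card_zpowers] at h2
    have h3 : orderOf v₂ ≤ 2 := orderOf_le_of_pow_eq_one (by norm_num) (by rw [pow_two, h.toBase.vq2])
    omega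
  obtain ⟨m, hm, e⟩ := move h hnl hI hl P hu hu1 hur (hLR hx) hx1 hxr
  refine ⟨m, hm, ?_⟩
  have hmr : m * v₂ * m⁻¹ = v₂ := by rw [mem_cz.1 hm.1.2, mul_inv_cancel_right]
  apply Subgroup.eq_of_le_of_card_ge
  · intro t ht
    rw [mem_conj] at ht
    have e3 : t = m * (m⁻¹ * t * m) * m⁻¹ := by group
    rw [e3]
    rcases h.toBase.symm.mem_V1 ht hu hu1 hur with e4 | e4 | e4 | e4 <;> rw [e4]
    · simp
    · rw [hmr]; exact hr
    · rw [e]; exact hx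
    · have e5 : m * (v₂ * u) * m⁻¹ = m * v₂ * m⁻¹ * (m * u * m⁻¹) := by group
      rw [e5, hmr, e]
      exact mul_mem hr hx
  · rw [Side.card_conj, hL, h.card2]

/-- **the projective plane `R`** -/
theorem plane_gp
    (hT : ∀ x, x ∈ T ↔ x ∈ cz v₁ ∧ x ∈ cz v₂ ∧ x ∈ normalizer (V₁ : Set G) ∧ x ∈ normalizer (V₂ : Set G))
    (hij : i ≠ j) (hBP : ∀ i, T ≤ PP i) (hi : PP i = PE v₁ V₁ V₂) (hj : PP j = PM v₁ v₂ V₁) :
    GPp T PP i j 3 ∧ GPp T PP j i 3 := by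
  have c8 : Nat.card (RR v₁ v₂ l) = 8 := P.rk.card_eq P.four
  have sqR : ∀ x ∈ RR v₁ v₂ l, x * x = 1 := fun x hx => P.rk.o.sq x (P.rk.RN hx)
  have coR : ∀ x ∈ RR v₁ v₂ l, ∀ y ∈ RR v₁ v₂ l, x * y = y * x := fun x hx y hy =>
    comm_of_sq sqR hx hy
  have hgR : ∀ g, g ∈ PP i ∨ g ∈ PP j → g ∈ normalizer (RR v₁ v₂ l : Set G) ∧ g ∈ cz v₁ ∧ g ∈ normalizer (V₁ : Set G) := by
    rintro g (hg | hg)
    · rw [hi] at hg
      exact ⟨P.nor ⟨hg.1, hg.2.1⟩, hg.1, hg.2.1⟩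
    · rw [hj] at hg
      exact ⟨P.nor ⟨hg.1.1, hg.2⟩, hg.1.1, hg.2⟩
  have hconj : ∀ g : G, g ∈ normalizer (RR v₁ v₂ l : Set G) → ∀ L : Subgroup G, L ≤ RR v₁ v₂ l →
      MulAut.conj g • L ≤ RR v₁ v₂ l := by
    intro g hg L hL t ht
    rw [mem_conj] at ht
    have := (mem_normalizer_iff.1 hg _).1 (hL ht)
    rwa [show g * (g⁻¹ * t * g) * g⁻¹ = t by group] at this
  have F : Flags T (PP i) (PP j) (ptR (RR v₁ v₂ l)) (lnR (RR v₁ v₂ l)) inc ⟨v₂⟩ ⟨V₂⟩ :=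
    { hp := ⟨P.rk.rR, h.v2⟩
      hl := ⟨P.V2R, h.card2⟩
      hpl := h.vV2
      Bi := hBP i
      Bj := hBP j
      pts := fun g hg x hx => by
        refine ⟨(mem_normalizer_iff.1 (hgR g hg).1 _).1 hx.1, fun e => hx.2 ?_⟩
        rw [pt_smul] at e
        calc x.val = g⁻¹ * (g * x.val * g⁻¹) * g := by group
          _ = 1 := by rw [e]; group
      lns := fun g hg L hL => by
        refine ⟨hconj g (hgR g hg).1 _ hL.1, ?_⟩
        rw [ln_smul, Side.card_conj]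
        exact hL.2
      inc' := fun g hg x hx L hL hxL => by
        show g * x.val * g⁻¹ ∈ MulAut.conj g • L.val
        exact mem_sm.2 hxL
      fixl := fun g hg => by
        rw [hi] at hg
        apply ln_ext
        exact conj_eq hg.2.2
      fixp := fun g hg => by
        rw [hj] at hg
        apply pt_ext
        show g * v₂ * g⁻¹ = v₂
        rw [mem_cz.1 hg.1.2, mul_inv_cancel_right]
      trp := fun x hx hxl => by
        obtain ⟨k, hk, e⟩ := h.t2 v₂ h.vV2 h.v2 x.val hxl hx.2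
        exact ⟨k, by rw [hi]; exact L2_PE h.toBase hk, pt_ext e⟩
      trl := fun L hL hpL => by
        obtain ⟨g, hg, e⟩ := move_line h hnl hI hl P hL.1 hL.2 hpL
        exact ⟨g, by rw [hj]; exact hg, ln_ext e⟩
      stab := fun g hg hp hL => by
        have h1 : g ∈ cz v₁ ⊓ normalizer (V₁ : Set G) :=
          (sup_le (fun x hx => (hgR x (Or.inl hx)).2) (fun x hx => (hgR x (Or.inr hx)).2) :
            PP i ⊔ PP j ≤ cz v₁ ⊓ normalizer (V₁ : Set G)) hg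
        refine (hT g).2 ⟨h1.1, ?_, h1.2, ?_⟩
        · have h2 : g * v₂ * g⁻¹ = v₂ := congrArg Pt.val hp
          exact mem_cz.2 (mul_inv_eq_iff_eq_mul.1 h2)
        · exact mem_normalizer_of_conj (congrArg Ln.val hL) }
  refine F.gpp_three hBP hij ?_ ?_ ?_
  · intro x hx y hy hxy
    have hne : x.val ≠ y.val := fun e => hxy (pt_ext e)
    have hc := coR _ hx.1 _ hy.1
    refine ⟨⟨kl (sqR _ hx.1) (sqR _ hy.1) hc⟩, ⟨?_, card_kl (hx := sqR _ hx.1) (hy := sqR _ hy.1) (hc := hc) hx.2 hy.2 hne⟩, Or.inr (Or.inl rfl),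
      Or.inr (Or.inr (Or.inl rfl))⟩
    rintro t (rfl | rfl | rfl | rfl)
    · exact one_mem _
    · exact hx.1
    · exact hy.1
    · exact mul_mem hx.1 hy.1
  · intro x hx y hy hxy L hL L' hL' h1 h2 h3 h4
    have hne : x.val ≠ y.val := fun e => hxy (pt_ext e)
    have hc := coR _ hx.1 _ hy.1
    apply ln_ext
    rw [eq_kl (hx := sqR _ hx.1) (hy := sqR _ hy.1) (hc := hc) hx.2 hy.2 hne hL.2 h1 h2,
      eq_kl (hx := sqR _ hx.1) (hy := sqR _ hy.1) (hc := hc) hx.2 hy.2 hne hL'.2 h3 h4]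
  · intro L hL L' hL' hne
    -- two elements of `L'` outside `L`
    by_contra hcon
    push Not at hcon
    have hcap : ∀ t ∈ L.val, t ∈ L'.val → t = 1 := by
      intro t ht ht'
      by_contra ht1
      exact hcon ⟨t⟩ ⟨hL.1 ht, ht1⟩ ht ht'
    have h2 : ∀ x ∈ L'.val, ∀ y ∈ L'.val, x ≠ 1 → y ≠ 1 → x = y := by
      intro x hx y hy hx1 hy1
      have hxL : x ∉ L.val := fun e => hx1 (hcap x e hx)
      have hyL : y ∉ L.val := fun e => hy1 (hcap y e hy)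
      have h3 := quo_two hL.1 (by rw [c8, hL.2]) (hL'.1 hx) (hL'.1 hy) hxL hyL
      have h4 := hcap _ h3 (mul_mem hx hy)
      calc x = x * (y * y) := by rw [sqR y (hL'.1 hy), mul_one]
        _ = y := by rw [← mul_assoc, h4, one_mul]
    obtain ⟨x, hx, hx1⟩ : ∃ x ∈ L'.val, x ≠ 1 := by
      by_contra hcon2
      push Not at hcon2
      have h3 : L'.val ≤ ⊥ := fun x hx => by rw [mem_bot]; exact hcon2 x hx
      have h4 := Subgroup.card_le_of_le h3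
      rw [hL'.2, Subgroup.card_bot] at h4
      omega
    have h3 : L'.val ≤ zpowers x := fun y hy => by
      by_cases hy1 : y = 1
      · rw [hy1]; exact one_mem _
      · rw [h2 y hy x hx hy1 hx1]; exact mem_zpowers _
    have h4 := Subgroup.card_le_of_le h3
    rw [Nat.card_zpowers, hL'.2] at h4
    have h5 : orderOf x ≤ 2 := orderOf_le_of_pow_eq_one (by norm_num) (by rw [pow_two, sqR x (hL'.1 hx)])
    omega

end main

/-! ### Restriction to a subgroup -/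

theorem gpp_restrict {B H : Subgroup G} {I : Type*} {P : I → Subgroup G} (hBP : ∀ i, B ≤ P i) (hPH : ∀ i, P i ≤ H)
    {i j : I} {m : ℕ} (hg : GPp B P i j m) :
    GPp (B.subgroupOf H) (fun i => (P i).subgroupOf H) i j m := by
  have hM : Model (B.subgroupOf H) (fun i => (P i).subgroupOf H) i j (adj B P) (fun x : H => ((x : G) : G ⧸ B)) ⊤ :=
    { li := le_top
      lj := le_top
      inj := fun x _ y _ e => by
        rw [QuotientGroup.eq] at e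
        exact e
      eqB := fun x _ b hb => by
        rw [QuotientGroup.eq]
        have e : ((x * b : H) : G)⁻¹ * (x : G) = ((b : H) : G)⁻¹ := by
          rw [Subgroup.coe_mul]; group
        rw [e]
        exact inv_mem hb
      adj := fun k _ x _ p hp hpB => by
        rw [adj_mk hBP]
        have e : ((x : H) : G)⁻¹ * ((x * p : H) : G) = (p : G) := by
          rw [Subgroup.coe_mul]; group
        rw [e]
        exact ⟨hp, hpB⟩
      sur := fun k _ x _ d hd => by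
        induction d using QuotientGroup.induction_on with
        | _ y =>
        rw [adj_mk hBP] at hd
        refine ⟨⟨(x : G)⁻¹ * y, hPH k hd.1⟩, hd.1, hd.2, ?_⟩
        have e : ((x * ⟨(x : G)⁻¹ * y, hPH k hd.1⟩ : H) : G) = y := by
          rw [Subgroup.coe_mul]; group
        rw [e] }
  refine hM.gpp (fun i => ?_) fun l hl => hg _ l hl
  intro x hx
  exact hBP i hx

end Cfsg.Agent.Omega.IId.Pf.Geo

end

section


/-!
# II.d, CASE 1, `q = 2`, case B: the quadrangle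

helper310.  The totally singular subgroups of order 4 and 8 of `N₁` which contain `v₂`: a generalised quadrangle
(`pu`, `quad_q`), on which `M` acts flag-transitively (`flags`).
-/

set_option autoImplicit false
set_option linter.unusedSectionVars false
set_option linter.unusedVariables false

namespace Cfsg.Agent.Omega.IId.Pf.Quad

open Cfsg.Agent.Omega.TV hiding z2
open Subgroup Cfsg Cfsg.Agent.ZN Cfsg.Agent.Omega.IId.PlaneSy Cfsg.Agent.Omega.IId.PlaneRk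
open Cfsg.Agent.Omega.IId.PlaneF Cfsg.Agent.Omega.IId.PlaneOf
open Cfsg.Agent.Omega.IId.One Cfsg.Agent.Omega.IId.SpSide
open Cfsg.Agent.Omega.IId.SpForm (two_mul_card_le four_mem)
open Cfsg.Agent.Omega.MinPar
open Cfsg.Agent.Omega.NoFF.Basic
open Cfsg.Agent.Omega.IId.Pf.Rad Cfsg.Agent.Omega.IId.Pf.Par Cfsg.Agent.Omega.IId.Pf.Idx
open Cfsg.Agent.Omega.IId.Pf.Geo Cfsg.Agent.Omega.IId.Pf.Dual
open Cfsg.Agent.ParSys Cfsg.Agent.ParSys.Free Cfsg.Agent.ParSys.RankTwo Cfsg.Agent.ParSys.FlagGP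
open scoped Pointwise commutatorElement

universe u

variable {G : Type u} [Group G]

/-! ### Adjoining an involution -/

/-- `A ∪ Ay` -/
def ad (A : Subgroup G) {y : G} (hy : y * y = 1) (hc : ∀ a ∈ A, a * y = y * a) : Subgroup G where
  carrier := {t | t ∈ A ∨ t * y ∈ A}
  one_mem' := Or.inl (one_mem _)
  mul_mem' := by
    rintro a b (ha | ha) (hb | hb)
    · exact Or.inl (mul_mem ha hb)
    · exact Or.inr (by rw [mul_assoc]; exact mul_mem ha hb)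
    · refine Or.inr ?_
      rw [mul_assoc, hc b hb, ← mul_assoc]
      exact mul_mem ha hb
    · left
      have e : a * b = a * y * (b * y) := by
        have h1 := hc _ hb
        calc a * b = a * (b * y * y) := by rw [mul_assoc b, hy, mul_one]
          _ = a * (y * (b * y)) := by rw [h1]
          _ = a * y * (b * y) := by group
      rw [e]
      exact mul_mem ha hb
  inv_mem' := by
    rintro a (ha | ha)
    · exact Or.inl (inv_mem ha)
    · refine Or.inr ?_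
      have h1 := inv_mem ha
      have hyi : y⁻¹ = y := inv_eq_of_mul_eq_one_left hy
      rw [mul_inv_rev, hyi] at h1
      have h2 := hc _ h1
      have e : a⁻¹ * y = y * a⁻¹ := by
        have e1 : y * a⁻¹ * y = y * (y * a⁻¹) := h2
        rw [← mul_assoc, hy, one_mul] at e1
        calc a⁻¹ * y = y * a⁻¹ * y * y := by rw [e1]
          _ = y * a⁻¹ := by rw [mul_assoc, hy, mul_one]
      rw [e]; exact h1

theorem mem_ad {A : Subgroup G} {y : G} {hy : y * y = 1} {hc : ∀ a ∈ A, a * y = y * a} {t : G} :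
    t ∈ ad A hy hc ↔ t ∈ A ∨ t * y ∈ A := Iff.rfl

theorem card_ad [Finite G] {A : Subgroup G} {y : G} {hy : y * y = 1} {hc : ∀ a ∈ A, a * y = y * a} (hyA : y ∉ A) :
    Nat.card (ad A hy hc) = 2 * Nat.card A := by
  have hle : A ≤ ad A hy hc := fun a ha => Or.inl ha
  apply le_antisymm
  · have h1 := card_le_two_mul (K := A) (H := ad A hy hc) (fun a ha b hb haA hbA => by
      have ha' : a * y ∈ A := (mem_ad.1 ha).resolve_left haA
      have hb' : b * y ∈ A := (mem_ad.1 hb).resolve_left hbA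
      have h2 := mul_mem (inv_mem ha') hb'
      -- `(ay)⁻¹(by) = y a⁻¹ b y`
      have h3 := hc _ h2
      have e : (a * y)⁻¹ * (b * y) = y⁻¹ * (a⁻¹ * b) * y := by group
      have hyi : y⁻¹ = y := inv_eq_of_mul_eq_one_left hy
      have e2 : a⁻¹ * b = y * ((a * y)⁻¹ * (b * y)) * y := by
        rw [e, hyi]
        calc a⁻¹ * b = (y * y) * (a⁻¹ * b) * (y * y) := by rw [hy, one_mul, mul_one]
          _ = y * (y * (a⁻¹ * b) * y) * y := by group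
      rw [e2, ← h3, mul_assoc, hy, mul_one]
      exact h2)
    rwa [inf_eq_left.2 hle] at h1
  · exact two_mul_card_le hle ⟨y, Or.inr (by rw [hy]; exact one_mem _), hyA⟩

/-! ### The quadrangle -/

section geo

variable [Finite G] {C N : Subgroup G} {r c : G} (o : GOrth C N r c)

/-- totally singular subgroups of order `n` containing `r` -/
def TS (C N : Subgroup G) (r : G) (n : ℕ) : Set (Ln G) := fun L =>
  r ∈ L.val ∧ L.val ≤ N ∧ Nat.card L.val = n ∧ ∀ x ∈ L.val, Qg C r x = 0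

theorem mem_TS {n : ℕ} {L : Ln G} :
    L ∈ TS C N r n ↔ r ∈ L.val ∧ L.val ≤ N ∧ Nat.card L.val = n ∧ ∀ x ∈ L.val, Qg C r x = 0 := Iff.rfl

def inc2 (L L' : Ln G) : Prop := L.val ≤ L'.val

theorem B_of_Q {A : Subgroup G} (hQ : ∀ x ∈ A, Qg C r x = 0) {x y : G} (hx : x ∈ A) (hy : y ∈ A) : Bg C r x y = 0 := by
  unfold Bg
  rw [hQ x hx, hQ y hy, hQ _ (mul_mem hx hy), add_zero, add_zero]

include o

theorem coN {x y : G} (hx : x ∈ N) (hy : y ∈ N) : x * y = y * x := (sy_of o).mc hx hy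

theorem Q_ad {A : Subgroup G} (hA : A ≤ N) (hQ : ∀ x ∈ A, Qg C r x = 0) {y : G} (hy : y ∈ N) (hQy : Qg C r y = 0)
    (hB : ∀ x ∈ A, Bg C r y x = 0) {t : G} (ht : t ∈ ad A (o.sq y hy) fun a ha => coN o (hA ha) hy) :
    t ∈ N ∧ Qg C r t = 0 := by
  rcases mem_ad.1 ht with ht | ht
  · exact ⟨hA ht, hQ t ht⟩
  · have e : t = t * y * y := by rw [mul_assoc, o.sq y hy, mul_one]
    have h1 := hB _ ht
    rw [e]
    refine ⟨mul_mem (hA ht) hy, ?_⟩
    rw [GOrth.Q_mul, hQ _ ht, hQy, o.comm _ (hA ht) _ hy, h1]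
    decide

theorem max8 (hN : Nat.card N = 128) {L : Ln G} (hL : L ∈ TS C N r 8) {y : G} (hy : y ∈ N) (hQy : Qg C r y = 0)
    (hB : ∀ t ∈ L.val, Bg C r y t = 0) : y ∈ L.val := by
  by_contra hyL
  set A := ad L.val (o.sq y hy) (fun a ha => coN o (hL.2.1 ha) hy) with hA
  have hAQ : ∀ t ∈ A, t ∈ N ∧ Qg C r t = 0 := fun t ht => Q_ad o hL.2.1 hL.2.2.2 hy hQy hB ht
  have h1 : Nat.card A = 2 * 8 := by rw [hA, card_ad hyL, hL.2.2.1]
  have h2 := card_iso o (A := A) (fun t ht => (hAQ t ht).1) (fun e => by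
    have := (hAQ c e).2
    rw [o.Qc] at this
    exact absurd this (by decide)) (fun x hx y hy => B_of_Q (fun t ht => (hAQ t ht).2) hx hy)
  rw [h1, hN] at h2
  omega

theorem pu {p p' l l' : Ln G} (hp : p ∈ TS C N r 4) (hp' : p' ∈ TS C N r 4) (hpp : p ≠ p') (hl : l ∈ TS C N r 8)
    (hl' : l' ∈ TS C N r 8) (h1 : inc2 p l) (h2 : inc2 p' l) (h3 : inc2 p l') (h4 : inc2 p' l') : l = l' := by
  obtain ⟨y, hy, hyp⟩ : ∃ y ∈ p'.val, y ∉ p.val := by
    by_contra hcon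
    push Not at hcon
    have h5 : p'.val ≤ p.val := hcon
    exact hpp (ln_ext (Subgroup.eq_of_le_of_card_ge h5 (by rw [hp.2.2.1, hp'.2.2.1])).symm)
  have h5 := two_mul_card_le (K := p.val) (H := l.val ⊓ l'.val) (le_inf h1 h3) ⟨y, ⟨h2 hy, h4 hy⟩, hyp⟩
  rw [hp.2.2.1] at h5
  have h6 : l.val ⊓ l'.val = l.val := Subgroup.eq_of_le_of_card_ge inf_le_left (by rw [hl.2.2.1]; omega)
  have h7 : l.val ⊓ l'.val = l'.val := Subgroup.eq_of_le_of_card_ge inf_le_right (by rw [hl'.2.2.1]; omega)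
  exact ln_ext (h6.symm.trans h7)

theorem quad_q (hr1 : r ≠ 1) (hN : Nat.card N = 128) {p l : Ln G} (hp : p ∈ TS C N r 4) (hl : l ∈ TS C N r 8)
    (hpl : ¬ inc2 p l) : ∃ q ∈ TS C N r 4, ∃ m ∈ TS C N r 8, inc2 p m ∧ inc2 q m ∧ inc2 q l ∧
      ∀ q' ∈ TS C N r 4, ∀ m' ∈ TS C N r 8, inc2 p m' → inc2 q' m' → inc2 q' l → q' = q ∧ m' = m := by
  obtain ⟨y, hy, hyl⟩ := SetLike.not_le_iff_exists.1 hpl
  have hyN := hp.2.1 hy
  have hQy := hp.2.2.2 y hy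
  have hadd : ∀ x ∈ l.val, ∀ z ∈ l.val, Bg C r y (x * z) = Bg C r y x + Bg C r y z := fun x hx z hz =>
    o.add y hyN x (hl.2.1 hx) z (hl.2.1 hz)
  obtain ⟨t, ht, hyt⟩ : ∃ t ∈ l.val, Bg C r y t = 1 := by
    by_contra hcon
    push Not at hcon
    exact hyl (max8 o hN hl hyN hQy fun t ht => (z2 _).resolve_right (hcon t ht))
  have hc := card_ker' (A := l.val) (f := Bg C r y) hadd ⟨t, ht, hyt⟩
  set q : Subgroup G := ker l.val (Bg C r y) hadd with hq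
  have hql : q ≤ l.val := fun x hx => hx.1
  have hqB : ∀ x ∈ q, Bg C r y x = 0 := fun x hx => hx.2
  have hqN : q ≤ N := hql.trans hl.2.1
  have c4 : Nat.card q = 4 := by rw [hl.2.2.1] at hc; omega
  have hrq : r ∈ q := ⟨hl.1, B_of_Q hp.2.2.2 hy hp.1⟩
  have hq4 : (⟨q⟩ : Ln G) ∈ TS C N r 4 := ⟨hrq, hqN, c4, fun x hx => hl.2.2.2 x (hql hx)⟩
  set m : Subgroup G := ad q (o.sq y hyN) (fun a ha => coN o (hqN ha) hyN) with hm
  have hmQ : ∀ t ∈ m, t ∈ N ∧ Qg C r t = 0 := fun t ht => Q_ad o hqN (fun x hx => hl.2.2.2 x (hql hx)) hyN hQy hqB ht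
  have hqm : q ≤ m := fun x hx => Or.inl hx
  have hym : y ∈ m := Or.inr (by rw [o.sq y hyN]; exact one_mem _)
  have c8 : Nat.card m = 8 := by rw [hm, card_ad (fun e => hyl (hql e)), c4]
  have hm8 : (⟨m⟩ : Ln G) ∈ TS C N r 8 := ⟨hqm hrq, fun t ht => (hmQ t ht).1, c8, fun t ht => (hmQ t ht).2⟩
  refine ⟨⟨q⟩, hq4, ⟨m⟩, hm8, ?_, hqm, hql, ?_⟩
  · intro x hx
    have hy1 : y ≠ 1 := fun e => hyl (e ▸ one_mem _)
    have hry : r ≠ y := fun e => hyl (e ▸ hl.1)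
    rcases four_mem hp.2.2.1 (fun x hx => o.sq x (hp.2.1 hx)) hp.1 hy hr1 hy1 hry hx with h1 | h1 | h1 | h1
    · rw [h1]; exact one_mem _
    · rw [h1]; exact hqm hrq
    · rw [h1]; exact hym
    · rw [h1]; exact mul_mem (hqm hrq) hym
  · intro q' hq' m' hm' h1 h2 h3
    have h4 : q' = ⟨q⟩ := by
      apply ln_ext
      refine Subgroup.eq_of_le_of_card_ge (fun x hx => ⟨h3 hx, B_of_Q hm'.2.2.2 (h1 hy) (h2 hx)⟩) ?_
      show Nat.card q ≤ _
      rw [c4, hq'.2.2.1]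
    refine ⟨h4, ?_⟩
    apply ln_ext
    refine (Subgroup.eq_of_le_of_card_ge ?_ ?_).symm
    · intro t ht
      have hq'm : q ≤ m'.val := by
        rw [h4] at h2
        exact h2
      have ht2 : t ∈ q ∨ t * y ∈ q := ht
      rcases ht2 with h5 | h5
      · exact hq'm h5
      · have e : t = t * y * y⁻¹ := by group
        rw [e]
        exact mul_mem (hq'm h5) (inv_mem (h1 hy))
    · show Nat.card m'.val ≤ Nat.card m
      rw [c8, hm'.2.2.1]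

end geo

section main

variable [Finite G] {T V₁ V₂ L₁ L₂ : Subgroup G} {v₁ v₂ s : G} {I : Type*} {PP : I → Subgroup G} {i j : I}
  (h : One T V₁ V₂ L₁ L₂ v₁ v₂ s) (hnl : NonLoc (cz v₁) (cz v₂))
  (hI : ∃ x ∈ nc v₁ {v₂}, ∃ y ∈ nc v₂ {v₁}, x * y ≠ y * x) {v' w l : G} (hl : l ∈ L₁)
  (P : Plane V₁ V₂ v₁ v₂ v' w l)

include h hnl hI hl P

theorem V2_TS : (⟨V₂⟩ : Ln G) ∈ TS (cz v₁) (nc v₁ {v₂}) v₂ 4 :=
  ⟨h.vV2, h.toBase.V2_le_N1, h.card2, fun x hx => Q_zero h h.toBase hx⟩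

theorem R_TS : (⟨RR v₁ v₂ l⟩ : Ln G) ∈ TS (cz v₁) (nc v₁ {v₂}) v₂ 8 :=
  ⟨P.rk.rR, P.rk.RN, P.rk.card_eq P.four, fun x hx => Q_zero_rk P.rk P.four hx⟩

/-- `N_M(V₂)` is transitive on the totally singular planes containing `V₂`. -/
theorem move_plane {L : Ln G} (hL : L ∈ TS (cz v₁) (nc v₁ {v₂}) v₂ 8) (hVL : V₂ ≤ L.val) :
    ∃ g ∈ PM v₁ v₂ V₂, MulAut.conj g • RR v₁ v₂ l = L.val := by
  have o := P.rk.o
  have hN := P.rk.card_N P.four
  have c8 : Nat.card (RR v₁ v₂ l) = 8 := P.rk.card_eq P.four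
  obtain ⟨x', hx', hx'V⟩ : ∃ x ∈ L.val, x ∉ V₂ := by
    by_contra hcon
    push Not at hcon
    have h1 := Subgroup.card_le_of_le (show L.val ≤ V₂ from hcon)
    rw [hL.2.2.1, h.card2] at h1
    omega
  obtain ⟨x, hx, hxV⟩ : ∃ x ∈ RR v₁ v₂ l, x ∉ V₂ := by
    by_contra hcon
    push Not at hcon
    have h1 := Subgroup.card_le_of_le (show RR v₁ v₂ l ≤ V₂ from hcon)
    rw [c8, h.card2] at h1
    omega
  have hxN := P.rk.RN hx
  have hx'N := hL.2.1 hx'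
  have hVR := P.V2R
  have qR : ∀ t ∈ RR v₁ v₂ l, t ∉ V₂ → x * t ∈ V₂ := fun t ht htV =>
    quo_two hVR (by rw [h.card2]; exact c8) hx ht hxV htV
  by_cases hx'R : x' ∈ RR v₁ v₂ l
  · refine ⟨1, one_mem _, ?_⟩
    rw [map_one, one_smul]
    refine Subgroup.eq_of_le_of_card_ge (fun t ht => ?_) (by rw [hL.2.2.1]; exact c8.symm.le)
    by_cases htV : t ∈ V₂
    · exact hVL htV
    · have h1 := quo_two hVR (by rw [h.card2]; exact c8) hx'R ht hx'V htV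
      have e : t = x'⁻¹ * (x' * t) := by group
      rw [e]
      exact mul_mem (inv_mem hx') (hVL h1)
  have hVN : V₂ ≤ nc v₁ {v₂} := h.toBase.V2_le_N1
  have hB : Bg (cz v₁) v₂ x x' = 1 := by
    refine (z2 _).resolve_left fun e => hx'R (P.rk.sing P.four hx'N (fun t ht => ?_) (hL.2.2.2 x' hx'))
    have hV0 : ∀ t ∈ V₂, Bg (cz v₁) v₂ x' t = 0 := fun t ht => B_of_Q hL.2.2.2 hx' (hVL ht)
    by_cases htV : t ∈ V₂
    · exact hV0 t htV
    · have h1 := qR t ht htV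
      have e2 : t = x * (x * t) := by rw [← mul_assoc, o.sq x hxN, one_mul]
      rw [e2, o.add x' hx'N x hxN _ (hVN h1), o.comm _ hx'N _ hxN, e, hV0 _ h1, add_zero]
  -- the reflection
  have hcN := o.c_mem
  have hcc := P.rk.cc
  have hxx' : x * x' ∈ nc v₁ {v₂} := mul_mem hxN hx'N
  have hzN : x * x' * v₁ ∈ nc v₁ {v₂} := mul_mem hxx' hcN
  have hQz : Qg (cz v₁) v₂ (x * x' * v₁) = 0 := by
    rw [o.Qmulc hxx', GOrth.Q_mul, Q_zero_rk P.rk P.four hx, hL.2.2.2 x' hx', hB]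
    decide
  have hBz : ∀ n ∈ nc v₁ {v₂}, Bg (cz v₁) v₂ (x * x' * v₁) n = Bg (cz v₁) v₂ x n + Bg (cz v₁) v₂ x' n := by
    intro n hn
    rw [o.add_left hxx' hcN hn, o.add_left hxN hx'N hn, o.Bc n hn, add_zero]
  have hz1 : x * x' * v₁ ≠ 1 := fun e => by
    have h1 := hBz x hxN
    rw [e, o.comm _ (one_mem _) _ hxN, (sy_of o).one_right hxN, o.self x hxN, o.comm _ hx'N _ hxN, hB] at h1
    exact absurd h1 (by decide)
  obtain ⟨g, hg, hgn⟩ := o.refl _ hzN hz1 hQz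
  have ezc : x * x' * v₁ * v₁ = x * x' := by rw [mul_assoc, hcc, mul_one]
  rw [ezc] at hgn
  have gx : g * x * g⁻¹ = x' := by
    rcases hgn x hxN with ⟨h1, -⟩ | ⟨-, h1⟩
    · rw [hBz x hxN, o.self x hxN, o.comm _ hx'N _ hxN, hB] at h1
      exact absurd h1 (by decide)
    · rw [h1, ← mul_assoc, o.sq x hxN, one_mul]
  have gV : ∀ t ∈ V₂, g * t * g⁻¹ = t := by
    intro t ht
    rcases hgn t (hVN ht) with ⟨-, h1⟩ | ⟨h1, -⟩
    · exact h1
    · rw [hBz t (hVN ht), P.rk.iso x hx t (hVR ht), B_of_Q hL.2.2.2 hx' (hVL ht)] at h1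
      exact absurd h1 (by decide)
  have hg2 : g ∈ cz v₂ := mem_cz.2 (mul_inv_eq_iff_eq_mul.1 (gV _ h.vV2))
  refine ⟨g, ⟨⟨hg, hg2⟩, ?_⟩, ?_⟩
  · apply Cfsg.Agent.MinSimple.VModule.mem_normalizer_of_map_le
    rintro _ ⟨t, ht, rfl⟩
    show g * t * g⁻¹ ∈ V₂
    rw [gV t ht]; exact ht
  · apply Subgroup.eq_of_le_of_card_ge
    · intro t ht
      rw [mem_conj] at ht
      have e3 : t = g * (g⁻¹ * t * g) * g⁻¹ := by group
      rw [e3]
      generalize g⁻¹ * t * g = t at ht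
      by_cases htV : t ∈ V₂
      · rw [gV t htV]; exact hVL htV
      · have h1 := qR t ht htV
        have e2 : t = x * (x * t) := by rw [← mul_assoc, o.sq x hxN, one_mul]
        rw [e2]
        have e4 : g * (x * (x * t)) * g⁻¹ = g * x * g⁻¹ * (g * (x * t) * g⁻¹) := by group
        rw [e4, gx, gV _ h1]
        exact mul_mem hx' (hVL h1)
    · rw [Side.card_conj, hL.2.2.1]
      exact c8.symm.le

theorem smul_TS {g : G} (hg1 : g ∈ cz v₁) (hg2 : g ∈ cz v₂) {n : ℕ} {L : Ln G}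
    (hL : L ∈ TS (cz v₁) (nc v₁ {v₂}) v₂ n) : g • L ∈ TS (cz v₁) (nc v₁ {v₂}) v₂ n := by
  have o := P.rk.o
  have hr : g * v₂ * g⁻¹ = v₂ := by rw [mem_cz.1 hg2, mul_inv_cancel_right]
  refine ⟨?_, ?_, ?_, ?_⟩
  · rw [ln_smul, ← hr]
    exact mem_sm.2 hL.1
  · intro t ht
    rw [ln_smul, mem_conj] at ht
    have := o.nor g hg1 _ (hL.2.1 ht)
    rwa [show g * (g⁻¹ * t * g) * g⁻¹ = t by group] at this
  · rw [ln_smul, Side.card_conj]
    exact hL.2.2.1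
  · intro t ht
    rw [ln_smul, mem_conj] at ht
    have h1 := o.inv g hg1 _ (hL.2.1 ht)
    rw [show g * (g⁻¹ * t * g) * g⁻¹ = t by group] at h1
    rw [h1]
    exact hL.2.2.2 _ ht

/-- the flags of the quadrangle -/
theorem flags
    (hT : ∀ x, x ∈ T ↔ x ∈ cz v₁ ∧ x ∈ cz v₂ ∧ x ∈ normalizer (V₁ : Set G) ∧ x ∈ normalizer (V₂ : Set G))
    (hi : PP i = PM v₁ v₂ V₁) (hj : PP j = PM v₁ v₂ V₂) :
    Flags T (PP i) (PP j) (TS (cz v₁) (nc v₁ {v₂}) v₂ 4) (TS (cz v₁) (nc v₁ {v₂}) v₂ 8) inc2 ⟨V₂⟩ ⟨RR v₁ v₂ l⟩ := by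
  have hM : ∀ g, g ∈ PP i ∨ g ∈ PP j → g ∈ cz v₁ ∧ g ∈ cz v₂ := by
    rintro g (hg | hg)
    · rw [hi] at hg; exact hg.1
    · rw [hj] at hg; exact hg.1
  exact
    { hp := V2_TS h hnl hI hl P
      hl := R_TS h hnl hI hl P
      hpl := P.V2R
      Bi := by
        rw [hi]
        intro x hx
        have := (hT x).1 hx
        exact ⟨⟨this.1, this.2.1⟩, this.2.2.1⟩
      Bj := by
        rw [hj]
        intro x hx
        have := (hT x).1 hx
        exact ⟨⟨this.1, this.2.1⟩, this.2.2.2⟩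
      pts := fun g hg x hx => smul_TS h hnl hI hl P (hM g hg).1 (hM g hg).2 hx
      lns := fun g hg x hx => smul_TS h hnl hI hl P (hM g hg).1 (hM g hg).2 hx
      inc' := fun g hg x hx y hy hxy => by
        intro t ht
        rw [ln_smul, mem_conj] at ht ⊢
        exact hxy ht
      fixl := fun g hg => by
        rw [hi] at hg
        apply ln_ext
        exact conj_eq (P.nor ⟨hg.1.1, hg.2⟩)
      fixp := fun g hg => by
        rw [hj] at hg
        apply ln_ext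
        exact conj_eq hg.2
      trp := fun L hL hLR => by
        obtain ⟨g, hg, e⟩ := move_line h hnl hI hl P hLR hL.2.2.1 hL.1
        exact ⟨g, by rw [hi]; exact hg, ln_ext e⟩
      trl := fun L hL hpL => by
        obtain ⟨g, hg, e⟩ := move_plane h hnl hI hl P hL hpL
        exact ⟨g, by rw [hj]; exact hg, ln_ext e⟩
      stab := fun g hg hp hL => by
        have h1 : g ∈ cz v₁ ⊓ cz v₂ :=
          (sup_le (fun x hx => hM x (Or.inl hx)) (fun x hx => hM x (Or.inr hx)) : PP i ⊔ PP j ≤ cz v₁ ⊓ cz v₂) hg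
        have h2 : g ∈ normalizer (V₂ : Set G) := mem_normalizer_of_conj (congrArg Ln.val hp)
        have h3 : g ∈ normalizer (RR v₁ v₂ l : Set G) := mem_normalizer_of_conj (congrArg Ln.val hL)
        exact (hT g).2 ⟨h1.1, h1.2, nM h hI P h1.1 h1.2 h3, h2⟩ }

end main

end Cfsg.Agent.Omega.IId.Pf.Quad

end

section


/-!
# II.d, CASE 1, `q = 2`, case B: the system of type `F₄`

helper310.  `sysL` : `⟨C₁, C₂⟩` has a system of parabolics of type `F₄` (`FreeLoc.SysL`) with all `q i = 2` and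
`B = U = T`.
-/

set_option autoImplicit false
set_option linter.unusedSectionVars false
set_option linter.unusedVariables false

namespace Cfsg.Agent.Omega.IId.Pf.Sys

open Cfsg.Agent.Omega.TV hiding z2
open Subgroup Cfsg Cfsg.Agent.ZN Cfsg.Agent.Omega.IId.PlaneSy Cfsg.Agent.Omega.IId.PlaneRk
open Cfsg.Agent.Omega.IId.PlaneF Cfsg.Agent.Omega.IId.PlaneOf
open Cfsg.Agent.Omega.IId.One Cfsg.Agent.Omega.IId.SpSide
open Cfsg.Agent.Omega.MinPar
open Cfsg.Agent.Omega.IId.Pf.Rad Cfsg.Agent.Omega.IId.Pf.Par Cfsg.Agent.Omega.IId.Pf.Idx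
open Cfsg.Agent.Omega.IId.Pf.Geo Cfsg.Agent.Omega.IId.Pf.Quad
open Cfsg.Agent.ParSys Cfsg.Agent.ParSys.Free Cfsg.Agent.ParSys.RankTwo Cfsg.Agent.ParSys.FlagGP

universe u

variable {G : Type u} [Group G]

/-- the minimal parabolics -/
def PF (v₁ v₂ : G) (V₁ V₂ : Subgroup G) : Fin 4 → Subgroup G :=
  ![PE v₂ V₁ V₂, PM v₁ v₂ V₂, PM v₁ v₂ V₁, PE v₁ V₁ V₂]

section

variable (v₁ v₂ : G) (V₁ V₂ : Subgroup G)

theorem PF0 : PF v₁ v₂ V₁ V₂ 0 = PE v₂ V₁ V₂ := rfl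
theorem PF1 : PF v₁ v₂ V₁ V₂ 1 = PM v₁ v₂ V₂ := rfl
theorem PF2 : PF v₁ v₂ V₁ V₂ 2 = PM v₁ v₂ V₁ := rfl
theorem PF3 : PF v₁ v₂ V₁ V₂ 3 = PE v₁ V₁ V₂ := rfl

end

variable [Finite G] {T V₁ V₂ L₁ L₂ : Subgroup G} {v₁ v₂ s : G}
  (h : One T V₁ V₂ L₁ L₂ v₁ v₂ s) (hnl : NonLoc (cz v₁) (cz v₂))
  (hI : ∃ x ∈ nc v₁ {v₂}, ∃ y ∈ nc v₂ {v₁}, x * y ≠ y * x)

include h hnl hI

/-- a plane on side 1 -/
theorem plane1 : ∃ v' w, ∃ l ∈ L₁, Plane V₁ V₂ v₁ v₂ v' w l := by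
  obtain ⟨x, hx, hx1, hxv⟩ := exists_x h
  obtain ⟨w, l, hl, P⟩ := exists_plane h hI hx hx1 hxv
  exact ⟨x, w, l, hl, P⟩

theorem T_iff' : ∀ x, x ∈ T ↔ x ∈ cz v₁ ∧ x ∈ cz v₂ ∧ x ∈ normalizer (V₁ : Set G) ∧ x ∈ normalizer (V₂ : Set G) := by
  obtain ⟨v', w, l, hl, P⟩ := plane1 h hnl hI
  exact fun x => T_iff h hnl hI hl P

theorem le_PF : ∀ i, T ≤ PF v₁ v₂ V₁ V₂ i := by
  have hT := T_iff' h hnl hI
  intro i
  fin_cases i
  · intro x hx
    have := (hT x).1 hx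
    exact ⟨this.2.1, this.2.2⟩
  · intro x hx
    have := (hT x).1 hx
    exact ⟨⟨this.1, this.2.1⟩, this.2.2.2⟩
  · intro x hx
    have := (hT x).1 hx
    exact ⟨⟨this.1, this.2.1⟩, this.2.2.1⟩
  · intro x hx
    have := (hT x).1 hx
    exact ⟨this.1, this.2.2⟩

theorem PF_le : ∀ i, PF v₁ v₂ V₁ V₂ i ≤ cz v₁ ⊔ cz v₂ := by
  intro i
  fin_cases i
  · exact inf_le_left.trans le_sup_right
  · exact (inf_le_left.trans inf_le_left).trans le_sup_left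
  · exact (inf_le_left.trans inf_le_left).trans le_sup_left
  · exact inf_le_left.trans le_sup_left

theorem gen_PF : cz v₁ ⊔ cz v₂ ≤ ⨆ i, PF v₁ v₂ V₁ V₂ i := by
  obtain ⟨v', w, l, hl, P⟩ := plane1 h hnl hI
  have o₁ := P.rk.o
  have o₂ := h.symm.orth (One.hI_symm hI)
  have hi : ∀ i, PF v₁ v₂ V₁ V₂ i ≤ ⨆ i, PF v₁ v₂ V₁ V₂ i := fun i => le_iSup (fun i => PF v₁ v₂ V₁ V₂ i) i
  have hM : cz v₁ ⊓ cz v₂ ≤ ⨆ i, PF v₁ v₂ V₁ V₂ i :=
    (gen_M h hnl hI hl P).trans (sup_le (hi 2) (hi 1))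
  have hL2 : L₂ ≤ ⨆ i, PF v₁ v₂ V₁ V₂ i := (L2_PE h.toBase).trans (hi 3)
  have hL1 : L₁ ≤ ⨆ i, PF v₁ v₂ V₁ V₂ i := by
    refine le_trans ?_ (hi 0)
    have := L2_PE h.toBase.symm
    rwa [PE_comm] at this
  refine sup_le ((gen h o₁).trans (sup_le hM hL2)) ((gen h.symm o₂).trans (sup_le ?_ hL1))
  rw [inf_comm]
  exact hM

theorem card_PF : ∀ i, T.relIndex (PF v₁ v₂ V₁ V₂ i) = 3 := by
  obtain ⟨v', w, l, hl, P⟩ := plane1 h hnl hI
  obtain ⟨v'', w', l', hl', P'⟩ := plane1 h.symm hnl.symm (One.hI_symm hI)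
  intro i
  fin_cases i
  · have := idx_PE h.symm hnl.symm (One.hI_symm hI) hl' P'
    rwa [PE_comm] at this
  · have := idx_PM h.symm hnl.symm (One.hI_symm hI) hl' P'
    rwa [PM_comm] at this
  · exact idx_PM h hnl hI hl P
  · exact idx_PE h hnl hI hl P

/-- the rank two residues -/
theorem gp_PF : ∀ i j, i ≠ j → GPp T (PF v₁ v₂ V₁ V₂) i j (CoxeterMatrix.F₄ i j) := by
  obtain ⟨v', w, l, hl, P⟩ := plane1 h hnl hI
  obtain ⟨v'', w', l', hl', P'⟩ := plane1 h.symm hnl.symm (One.hI_symm hI)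
  have hT := T_iff' h hnl hI
  have hT' : ∀ x, x ∈ T ↔ x ∈ cz v₂ ∧ x ∈ cz v₁ ∧ x ∈ normalizer (V₂ : Set G) ∧ x ∈ normalizer (V₁ : Set G) := by
    intro x
    rw [hT x]
    tauto
  have hBP := le_PF h hnl hI
  have g01 := plane_gp h.symm hnl.symm (One.hI_symm hI) hl' P' hT' (i := (0 : Fin 4)) (j := 1) (PP := PF v₁ v₂ V₁ V₂)
    (by decide) hBP (PE_comm _ _ _).symm (PM_comm _ _ _).symm
  have g32 := plane_gp h hnl hI hl P hT (i := (3 : Fin 4)) (j := 2) (PP := PF v₁ v₂ V₁ V₂) (by decide) hBP rfl rfl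
  have F := Quad.flags h hnl hI hl P hT (i := (2 : Fin 4)) (j := 1) (PP := PF v₁ v₂ V₁ V₂) rfl rfl
  have g21 := F.gpp_four hBP (by decide)
    (fun p hp p' hp' hpp l hl l' hl' h1 h2 h3 h4 => pu P.rk.o hp hp' hpp hl hl' h1 h2 h3 h4)
    (fun p hp l hl hpl => quad_q P.rk.o h.v2 (P.rk.card_N P.four) hp hl hpl)
  have g03 := digon_E h.toBase hT (i := (0 : Fin 4)) (j := 3) (PP := PF v₁ v₂ V₁ V₂) hBP rfl rfl
  have g13 := digon_M h.toBase hT (i := (1 : Fin 4)) (j := 3) (PP := PF v₁ v₂ V₁ V₂) hBP rfl rfl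
  have g20 := digon_M h.toBase.symm hT' (i := (2 : Fin 4)) (j := 0) (PP := PF v₁ v₂ V₁ V₂) hBP
    (PM_comm _ _ _).symm (PE_comm _ _ _).symm
  intro i j hij
  fin_cases i <;> fin_cases j
  · exact absurd rfl hij
  · exact g01.1
  · exact g20.2
  · exact g03.1
  · exact g01.2
  · exact absurd rfl hij
  · exact g21.2
  · exact g13.1
  · exact g20.1
  · exact g21.1
  · exact absurd rfl hij
  · exact g32.2
  · exact g03.2
  · exact g13.2
  · exact g32.1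
  · exact absurd rfl hij

/-- a 2-group normalised by `⟨C₁, C₂⟩` is trivial -/
theorem core {g : G} (hg : g ∈ T) (hc : ∀ x ∈ cz v₁ ⊔ cz v₂, x⁻¹ * g * x ∈ T) : g = 1 := by
  set G₀ := cz v₁ ⊔ cz v₂ with hG₀
  let U : Subgroup G := closure {y | ∃ x ∈ G₀, y = x⁻¹ * g * x}
  have hU : U ≤ T := by
    rw [closure_le]
    rintro _ ⟨x, hx, rfl⟩
    exact hc x hx
  have hn : G₀ ≤ normalizer (U : Set G) := by
    intro k hk
    apply Cfsg.Agent.MinSimple.VModule.mem_normalizer_of_map_le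
    rw [MonoidHom.map_closure, closure_le]
    rintro _ ⟨y, ⟨x, hx, rfl⟩, rfl⟩
    refine subset_closure ⟨x * k⁻¹, mul_mem hx (inv_mem hk), ?_⟩
    show k * (x⁻¹ * g * x) * k⁻¹ = _
    group
  have h1 := hnl U (h.pT.to_le hU) (le_sup_left.trans hn) (le_sup_right.trans hn)
  have h2 : g ∈ U := subset_closure ⟨1, one_mem _, by group⟩
  rwa [h1, mem_bot] at h2

/-- **The system of type `F₄`.** -/
theorem sysL : FreeLoc.SysL CoxeterMatrix.F₄.toCoxeterSystem (T.subgroupOf (cz v₁ ⊔ cz v₂))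
    (fun i => (PF v₁ v₂ V₁ V₂ i).subgroupOf (cz v₁ ⊔ cz v₂)) (T.subgroupOf (cz v₁ ⊔ cz v₂)) (fun _ => 2) := by
  have hBP := le_PF h hnl hI
  have hPG := PF_le h hnl hI
  have hc3 := card_PF h hnl hI
  have hle : ∀ i, T.subgroupOf (cz v₁ ⊔ cz v₂) ≤ (PF v₁ v₂ V₁ V₂ i).subgroupOf (cz v₁ ⊔ cz v₂) := fun i x hx => hBP i hx
  have hidx : ∀ i, (T.subgroupOf (cz v₁ ⊔ cz v₂)).relIndex ((PF v₁ v₂ V₁ V₂ i).subgroupOf (cz v₁ ⊔ cz v₂)) = 3 := by
    intro i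
    rw [relIndex_subgroupOf (hPG i), hc3 i]
  refine
    { le := hle
      gen := ?_
      gp := ?_
      card := hidx
      two := fun i => le_rfl
      U_le := le_rfl
      pan := ?_
      clo := fun i g hg x hx hgx => hgx
      core := ?_ }
  · have h1 := gen_PF h hnl hI
    apply Subgroup.map_injective (cz v₁ ⊔ cz v₂).subtype_injective
    rw [Subgroup.map_iSup, ← MonoidHom.range_eq_map, Subgroup.range_subtype]
    apply le_antisymm
    · refine iSup_le fun i => ?_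
      rw [subgroupOf_map_subtype]
      exact inf_le_right
    · refine h1.trans (iSup_le fun i => ?_)
      refine le_trans ?_ (le_iSup _ i)
      rw [subgroupOf_map_subtype]
      exact le_inf le_rfl (hPG i)
  · rw [gp_iff]
    intro i j hij
    exact gpp_restrict hBP hPG (gp_PF h hnl hI i j hij)
  · intro i g hg x hx hxB hgx y hy
    exact pan_three (P := fun i => (PF v₁ v₂ V₁ V₂ i).subgroupOf (cz v₁ ⊔ cz v₂)) (hle i) (hidx i) hg hx hxB hgx hy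
  · intro g hg hx
    apply Subtype.ext
    exact core h hnl hI hg fun x hxG => hx ⟨x, hxG⟩

end Cfsg.Agent.Omega.IId.Pf.Sys

end
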